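import Mathlib
import Groth.Prelude.Def_AffAlg

/-!
# Direct image algebras of affine morphisms
-/

set_option autoImplicit false
set_option linter.style.haveILetI false
universe u

open CategoryTheory CategoryTheory.Limits AlgebraicGeometry TopologicalSpace Opposite

namespace Groth.Agent.AffAlgLib

variable {X Y Z S : Scheme.{u}}

lemma toSpecΓ_map_appLE_fromSpec (U : Z.Opens) (l : Z ⟶ X) {W : X.Opens} (hW : IsAffineOpen W)
    (e : U ≤ l ⁻¹ᵁ W) :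
    U.toSpecΓ ≫ Spec.map (l.appLE W U e) ≫ hW.fromSpec = U.ι ≫ l := by
  refine Scheme.hom_ext_of_forall _ _ fun p ↦ ?_
  obtain ⟨V, hV, hpV, hVU⟩ := exists_isAffineOpen_mem_and_subset (X := Z) (x := U.ι p) (U := U) p.2
  replace hVU : V ≤ U := hVU
  refine ⟨U.ι ⁻¹ᵁ V, hpV, ?_⟩
  let j : ((U.ι ⁻¹ᵁ V : U.toScheme.Opens) : Scheme.{u}) ⟶ (V : Scheme.{u}) :=
    IsOpenImmersion.lift V.ι ((U.ι ⁻¹ᵁ V).ι ≫ U.ι) (by
      rintro _ ⟨q, rfl⟩
      exact ⟨⟨_, q.2⟩, rfl⟩)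
  have hj : j ≫ Z.homOfLE hVU = (U.ι ⁻¹ᵁ V).ι := by
    rw [← cancel_mono U.ι, Category.assoc, Scheme.homOfLE_ι]
    exact IsOpenImmersion.lift_fac _ _ _
  rw [← hj, Category.assoc, Category.assoc]
  congr 1
  have h1 : Z.homOfLE hVU ≫ U.toSpecΓ = V.toSpecΓ ≫ Spec.map (Z.presheaf.map (homOfLE hVU).op) :=
    (Scheme.Opens.toSpecΓ_SpecMap_presheaf_map V U hVU).symm
  rw [reassoc_of% h1, ← Spec.map_comp_assoc, Scheme.Hom.appLE_map,
    hW.SpecMap_appLE_fromSpec l hV, IsAffineOpen.toSpecΓ_fromSpec_assoc, Scheme.homOfLE_ι_assoc]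

lemma eq_of_toSpecΓ_comp_eq (U : Z.Opens) {R : CommRingCat.{u}} {φ φ' : R ⟶ Γ(Z, U)}
    (h : U.toSpecΓ ≫ Spec.map φ = U.toSpecΓ ≫ Spec.map φ') : φ = φ' := by
  ext a
  choose V hV hpV hVU' using fun p : U ↦
    exists_isAffineOpen_mem_and_subset (X := Z) (x := p.1) (U := U) p.2
  have hVU : ∀ p, V p ≤ U := hVU'
  refine TopCat.Sheaf.eq_of_locally_eq' Z.sheaf V U (fun p ↦ homOfLE (hVU p))
    (fun x hx ↦ Opens.mem_iSup.mpr ⟨⟨x, hx⟩, hpV _⟩) _ _ fun p ↦ ?_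
  have h1 := congrArg (Z.homOfLE (hVU p) ≫ ·) h
  simp only [← Category.assoc] at h1
  rw [← Scheme.Opens.toSpecΓ_SpecMap_presheaf_map (V p) U (hVU p), Category.assoc, Category.assoc,
    ← Spec.map_comp, ← Spec.map_comp, ← (hV p).isoSpec_hom, cancel_epi] at h1
  exact ConcreteCategory.congr_hom (Spec.map_injective h1) a

variable (f : X ⟶ S) (g : Y ⟶ S)

lemma le_preimage {h : Y ⟶ X} (w : h ≫ f = g) (U : S.Opens) : g ⁻¹ᵁ U ≤ h ⁻¹ᵁ (f ⁻¹ᵁ U) := by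
  subst w; rfl

lemma algHom_app (h : Y ⟶ X) (w : h ≫ f = g) (U : S.Opens) :
    (AffAlg.algHom f g h w).app (op U) = h.appLE (f ⁻¹ᵁ U) (g ⁻¹ᵁ U) (le_preimage f g w U) := by
  subst w
  simp only [AffAlg.algHom]
  exact Scheme.Hom.app_eq_appLE h

section affine

variable [IsAffineHom f]

variable {f g} in
/-- The morphism `g ⁻¹ U ⟶ X` given by an algebra homomorphism over an affine open `U`. -/
noncomputable def localHom (ω : AffAlg.alg f ⟶ AffAlg.alg g) {U : S.Opens} (hU : IsAffineOpen U) :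
    ((g ⁻¹ᵁ U : Y.Opens) : Scheme.{u}) ⟶ X :=
  (g ⁻¹ᵁ U).toSpecΓ ≫ Spec.map (ω.app (op U)) ≫ (hU.preimage f).fromSpec

variable {f g} in
lemma homOfLE_localHom (ω : AffAlg.alg f ⟶ AffAlg.alg g) {U W : S.Opens} (hU : IsAffineOpen U)
    (hW : IsAffineOpen W) (e : W ≤ U) :
    Y.homOfLE (g.preimage_mono e) ≫ localHom ω hU = localHom ω hW := by
  have hn : ω.app (op U) ≫ Y.presheaf.map (homOfLE (g.preimage_mono e)).op =
      X.presheaf.map (homOfLE (f.preimage_mono e)).op ≫ ω.app (op W) :=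
    (ω.naturality (homOfLE e).op).symm
  have h1 := (Scheme.Opens.toSpecΓ_SpecMap_presheaf_map (g ⁻¹ᵁ W) (g ⁻¹ᵁ U) (g.preimage_mono e)).symm
  unfold localHom
  rw [reassoc_of% h1, ← Spec.map_comp_assoc, hn, Spec.map_comp_assoc,
    (hU.preimage f).map_fromSpec (hW.preimage f)]

theorem algOf_injective : Function.Injective (AffAlg.algOf f g) := by
  rintro ⟨h₁, w₁⟩ ⟨h₂, w₂⟩ he
  refine Subtype.ext (Scheme.hom_ext_of_forall _ _ fun y ↦ ?_)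
  obtain ⟨U, hU, hyU, -⟩ := exists_isAffineOpen_mem_and_subset (X := S) (x := g y) (U := ⊤) trivial
  refine ⟨g ⁻¹ᵁ U, hyU, ?_⟩
  have hω : (AffAlg.algHom f g h₁ w₁).app (op U) = (AffAlg.algHom f g h₂ w₂).app (op U) :=
    congrArg (fun a : AffAlg.algHoms f g ↦ a.1.app (op U)) he
  rw [algHom_app, algHom_app] at hω
  rw [← toSpecΓ_map_appLE_fromSpec (g ⁻¹ᵁ U) h₁ (hU.preimage f) (le_preimage f g w₁ U),
    ← toSpecΓ_map_appLE_fromSpec (g ⁻¹ᵁ U) h₂ (hU.preimage f) (le_preimage f g w₂ U), hω]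

theorem exists_eq_algHom (ω : AffAlg.alg f ⟶ AffAlg.alg g) (hω : f.c ≫ ω = g.c) :
    ∃ (h : Y ⟶ X) (w : h ≫ f = g), AffAlg.algHom f g h w = ω := by
  have hcov : iSup (fun U : S.affineOpens ↦ g ⁻¹ᵁ U.1) = ⊤ := by
    rw [eq_top_iff]
    intro y _
    obtain ⟨U, hU, hyU, -⟩ := exists_isAffineOpen_mem_and_subset (X := S) (x := g y) (U := ⊤) trivial
    exact Opens.mem_iSup.mpr ⟨⟨U, hU⟩, hyU⟩
  let 𝒰 : Y.OpenCover := Y.openCoverOfIsOpenCover _ hcov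
  let h : Y ⟶ X := 𝒰.glueMorphisms (fun U ↦ localHom ω U.2) (by
    intro U U'
    refine Scheme.hom_ext_of_forall _ _ fun p ↦ ?_
    set y := (g ⁻¹ᵁ U.1).ι (pullback.fst (𝒰.f U) (𝒰.f U') p) with hy
    have hyU' : g y ∈ U'.1 := by
      have h0 : y = (g ⁻¹ᵁ U'.1).ι (pullback.snd (𝒰.f U) (𝒰.f U') p) := by
        exact congrArg (fun a : pullback (𝒰.f U) (𝒰.f U') ⟶ Y ↦ a p)
          (pullback.condition : pullback.fst (𝒰.f U) (𝒰.f U') ≫ 𝒰.f U = _)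
      rw [h0]
      exact (pullback.snd (𝒰.f U) (𝒰.f U') p).2
    obtain ⟨W, hW, hyW, hWUU⟩ := exists_isAffineOpen_mem_and_subset (X := S) (x := g y)
      (U := U.1 ⊓ U'.1) ⟨(pullback.fst (𝒰.f U) (𝒰.f U') p).2, hyU'⟩
    let q : pullback (𝒰.f U) (𝒰.f U') ⟶ Y := pullback.fst (𝒰.f U) (𝒰.f U') ≫ (g ⁻¹ᵁ U.1).ι
    refine ⟨q ⁻¹ᵁ (g ⁻¹ᵁ W), hyW, ?_⟩
    let l : ((q ⁻¹ᵁ (g ⁻¹ᵁ W) : (pullback (𝒰.f U) (𝒰.f U')).Opens) : Scheme.{u}) ⟶
        ((g ⁻¹ᵁ W : Y.Opens) : Scheme.{u}) := q ∣_ (g ⁻¹ᵁ W)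
    have hl : l ≫ (g ⁻¹ᵁ W).ι = (q ⁻¹ᵁ (g ⁻¹ᵁ W)).ι ≫ q := morphismRestrict_ι _ _
    have e₁ : W ≤ U.1 := fun a ha ↦ (hWUU ha).1
    have e₂ : W ≤ U'.1 := fun a ha ↦ (hWUU ha).2
    have h₁ : (q ⁻¹ᵁ (g ⁻¹ᵁ W)).ι ≫ pullback.fst (𝒰.f U) (𝒰.f U') =
        l ≫ Y.homOfLE (g.preimage_mono e₁) := by
      refine (cancel_mono (g ⁻¹ᵁ U.1).ι).mp ((Category.assoc _ _ _).trans ?_)
      refine Eq.trans ?_ (Category.assoc _ _ _).symm
      rw [Scheme.homOfLE_ι, hl]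
      rfl
    have h₂ : (q ⁻¹ᵁ (g ⁻¹ᵁ W)).ι ≫ pullback.snd (𝒰.f U) (𝒰.f U') =
        l ≫ Y.homOfLE (g.preimage_mono e₂) := by
      refine (cancel_mono (g ⁻¹ᵁ U'.1).ι).mp ((Category.assoc _ _ _).trans ?_)
      refine Eq.trans ?_ (Category.assoc _ _ _).symm
      rw [Scheme.homOfLE_ι, hl]
      exact congrArg _ (pullback.condition : pullback.fst (𝒰.f U) (𝒰.f U') ≫ 𝒰.f U = _).symm
    exact (Category.assoc _ _ _).symm.trans ((congrArg (· ≫ localHom ω U.2) h₁).trans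
      ((Category.assoc _ _ _).trans ((congrArg (l ≫ ·)
        ((homOfLE_localHom ω U.2 hW e₁).trans (homOfLE_localHom ω U'.2 hW e₂).symm)).trans
        ((Category.assoc _ _ _).symm.trans ((congrArg (· ≫ localHom ω U'.2) h₂).symm.trans
          (Category.assoc _ _ _)))))))
  have hι : ∀ U : S.affineOpens, (g ⁻¹ᵁ U.1).ι ≫ h = localHom ω U.2 :=
    fun U ↦ 𝒰.ι_glueMorphisms _ _ U
  have w : h ≫ f = g := by
    refine 𝒰.hom_ext _ _ fun U ↦ ?_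
    show (g ⁻¹ᵁ U.1).ι ≫ h ≫ f = (g ⁻¹ᵁ U.1).ι ≫ g
    have hc : f.appLE U.1 (f ⁻¹ᵁ U.1) le_rfl ≫ ω.app (op U.1) = g.appLE U.1 (g ⁻¹ᵁ U.1) le_rfl := by
      rw [← Scheme.Hom.app_eq_appLE, ← Scheme.Hom.app_eq_appLE]
      exact NatTrans.congr_app hω (op U.1)
    rw [← toSpecΓ_map_appLE_fromSpec (g ⁻¹ᵁ U.1) g U.2 le_rfl, reassoc_of% (hι U)]
    unfold localHom
    simp only [Category.assoc]
    rw [← U.2.SpecMap_appLE_fromSpec f (U.2.preimage f) le_rfl, ← Spec.map_comp_assoc, hc]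
  refine ⟨h, w, ?_⟩
  refine TopCat.Sheaf.hom_ext (F' := ⟨AffAlg.alg g, ((TopCat.Sheaf.pushforward CommRingCat g.base).obj Y.sheaf).2⟩)
    (F := AffAlg.alg f) (B := fun U : S.affineOpens ↦ U.1) ?_ (α := AffAlg.algHom f g h w) (β := ω)
    fun U ↦ ?_
  · rw [show Set.range (fun U : S.affineOpens ↦ U.1) = {U | IsAffineOpen U} by ext; simp [Scheme.affineOpens]]
    exact S.isBasis_affineOpens
  · rw [algHom_app]
    have h1 := toSpecΓ_map_appLE_fromSpec (g ⁻¹ᵁ U.1) h (U.2.preimage f) (le_preimage f g w U.1)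
    rw [hι U] at h1
    unfold localHom at h1
    rw [← Category.assoc, ← Category.assoc, cancel_mono] at h1
    exact eq_of_toSpecΓ_comp_eq _ h1

theorem algOf_bijective : Function.Bijective (AffAlg.algOf f g) :=
  ⟨algOf_injective f g, fun ω ↦ by
    obtain ⟨h, w, e⟩ := exists_eq_algHom f g ω.1 ω.2
    exact ⟨⟨h, w⟩, Subtype.ext e⟩⟩

end affine

/-- The restriction of `h` over `f ⁻¹ U` on global sections. -/
lemma isClosedImmersion_of_surjective [IsAffineHom f] [IsAffineHom g] (h : Y ⟶ X) (w : h ≫ f = g)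
    (hsurj : ∀ U : S.affineOpens, Function.Surjective ((AffAlg.algHom f g h w).app (op U.1)).hom) :
    IsClosedImmersion h := by
  subst w
  rw [IsZariskiLocalAtTarget.iff_of_iSup_eq_top (P := @IsClosedImmersion)
    (fun U : S.affineOpens ↦ f ⁻¹ᵁ U.1) (by
      rw [← Scheme.Hom.preimage_iSup, iSup_affineOpens_eq_top]; rfl)]
  intro U
  haveI : IsAffine ((f ⁻¹ᵁ U.1 : X.Opens) : Scheme.{u}) := U.2.preimage f
  haveI hY : IsAffine ((h ⁻¹ᵁ (f ⁻¹ᵁ U.1) : Y.Opens) : Scheme.{u}) := U.2.preimage (h ≫ f)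
  refine (IsClosedImmersion.hasAffineProperty.{u}.iff_of_isAffine).mpr ⟨hY, ?_⟩
  rw [morphismRestrict_appTop]
  intro a
  obtain ⟨b, hb⟩ := (ConcreteCategory.bijective_of_isIso
    (Y.presheaf.map (eqToHom (image_morphismRestrict_preimage h (f ⁻¹ᵁ U.1) ⊤)).op)).2 a
  obtain ⟨c, hc⟩ : ∃ c, (h.app (Scheme.Opens.ι (f ⁻¹ᵁ U.1) ''ᵁ ⊤)).hom c = b := by
    have key : ∀ V : X.Opens, V = f ⁻¹ᵁ U.1 → Function.Surjective (h.app V).hom := by
      rintro V rfl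
      have := hsurj U
      rw [algHom_app] at this
      rw [Scheme.Hom.app_eq_appLE]
      exact this
    exact key _ ((Scheme.Hom.image_top_eq_opensRange _).trans (Scheme.Opens.opensRange_ι _)) b
  exact ⟨c, by rw [← hb, ← hc]; rfl⟩

end Groth.Agent.AffAlgLib
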